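import Cfsg.Agent.OddHalf.D4.Spor.FiTF

/-!
# S3010 (Sidki pairs), the row of the Baby Monster: facts on `Fi24` (helper74)

`a`, `b` two commuting transpositions of `Fi24`.

* `two_group` : a 2-subgroup of `C(ab)` normalised by `C(a) ∩ C(ab) ∩ Fi24'` is contained in `⟨ab⟩`;
* `exists_seventeen` : an element of order 17 of `Fi24'` commuting with `a`.
-/

set_option autoImplicit false

namespace Cfsg.Agent.H74.SK.BFi

open Cfsg Cfsg.Spor Cfsg.Agent.R01 Cfsg.Agent.R08 Cfsg.Agent.R08.FiTwentyFour Cfsg.Agent.R08.TetFi24A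
open Cfsg.Agent.OddHalf.D4.Spor.FiTF
open Subgroup

theorem two_group {a b : Fi24} (P : At a b) {s : Spor.Fi24'} (hs : (s : Fi24) = a * b) (W : Subgroup Spor.Fi24')
    (hW : IsPGroup 2 W) (h1 : ∀ w ∈ W, w * s = s * w)
    (h2 : ∀ y : Spor.Fi24', (y : Fi24) * a = a * y → y * s = s * y → ∀ w ∈ W, y * w * y⁻¹ ∈ W) :
    ∀ w ∈ W, w = 1 ∨ w = s := by
  have hC : ∀ g : Cab a b, (⟨(g : Fi24), g.2.1⟩ : Spor.Fi24') * s = s * ⟨(g : Fi24), g.2.1⟩ := by
    intro g
    have hg := mem_Cab.1 g.2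
    apply Subtype.ext
    show (g : Fi24) * (s : Fi24) = (s : Fi24) * g
    rw [hs, ← mul_assoc, hg.2.1, mul_assoc, hg.2.2, mul_assoc]
  have hN : (res a b W).Normal := by
    refine ⟨fun n hn g => ?_⟩
    rw [mem_res] at hn ⊢
    have hg := mem_Cab.1 g.2
    exact h2 (⟨(g : Fi24), g.2.1⟩ : Spor.Fi24') hg.2.1 (hC g) _ hn
  rcases alternatives P hN with h | h
  · intro w hw
    have hwc : (w : Fi24) * (a * b) * (w : Fi24)⁻¹ = a * b := by
      rw [TetBig.fix_iff, ← hs]
      exact congrArg Subtype.val (h1 w hw)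
    have hnor : ∀ x ∈ Cab a b, (w : Fi24) * x * (w : Fi24)⁻¹ ∈ Cab a b := by
      intro x hx
      have h3 := conj_Cab (g := (w : Fi24)) hx
      rcases pair_fix P.ha P.hb P.ab P.ne hwc with h4 | h4
      · rwa [h4.1, h4.2] at h3
      · rw [h4.1, h4.2] at h3
        obtain ⟨k1, k2, k3⟩ := mem_Cab.1 h3
        exact mem_Cab.2 ⟨k1, k3, k2⟩
    have h3 : ∀ x ∈ Cab a b, (w : Fi24) * x * (w : Fi24)⁻¹ = x ∨ (w : Fi24) * x * (w : Fi24)⁻¹ = a * b * x := by
      intro x hx
      have hg := mem_Cab.1 hx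
      have h4 : w * (⟨x, hx.1⟩ * w⁻¹ * (⟨x, hx.1⟩ : Spor.Fi24')⁻¹) ∈ W :=
        mul_mem hw (h2 _ hg.2.1 (hC ⟨x, hx⟩) _ (inv_mem hw))
      have h5 : (w : Fi24) * x * (w : Fi24)⁻¹ * x⁻¹ ∈ Cab a b := mul_mem (hnor x hx) (inv_mem hx)
      have h6 : (⟨(w : Fi24) * x * (w : Fi24)⁻¹ * x⁻¹, h5.1⟩ : Spor.Fi24') =
          w * (⟨x, hx.1⟩ * w⁻¹ * (⟨x, hx.1⟩ : Spor.Fi24')⁻¹) := by
        apply Subtype.ext
        show (w : Fi24) * x * (w : Fi24)⁻¹ * x⁻¹ = (w : Fi24) * (x * (w : Fi24)⁻¹ * x⁻¹)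
        group
      rcases h ⟨_, h5⟩ (mem_res.2 (by rw [← h6] at h4; exact h4)) with h7 | h7
      · left
        have : (w : Fi24) * x * (w : Fi24)⁻¹ * x⁻¹ = 1 := congrArg Subtype.val h7
        exact mul_inv_eq_one.1 this
      · right
        have : (w : Fi24) * x * (w : Fi24)⁻¹ * x⁻¹ = a * b := by
          rw [← P.hz]; exact congrArg Subtype.val h7
        rw [← this]; group
    rcases mem_of_fix P w.2 (fun x hx => fix_all P h3 hx) with h4 | h4
    · exact Or.inl (Subtype.ext h4)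
    · exact Or.inr (Subtype.ext (h4.trans hs.symm))
  · exfalso
    have hcard := card_Cab P
    have hfin : Finite (Cab a b) := Nat.finite_of_card_ne_zero (by rw [hcard]; norm_num)
    have : Fact (Nat.Prime 5) := ⟨Nat.prime_five⟩
    obtain ⟨c, hc⟩ := exists_prime_orderOf_dvd_card' (G := Cab a b) 5 (by rw [hcard]; norm_num)
    have hcc : c * c ∈ res a b W := by
      rcases h c with h3 | h3
      · exact mul_mem h3 h3
      · have h4 := mul_mem h3 h3
        have h5 : c * P.z * (c * P.z) = c * c := by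
          calc c * P.z * (c * P.z) = c * (P.z * (c * P.z)) := by group
            _ = c * ((c * P.z) * P.z) := by rw [P.lift.ext.comm (c * P.z)]
            _ = c * c * (P.z * P.z) := by group
            _ = c * c := by rw [P.lift.ext.zz, mul_one]
        rwa [h5] at h4
    obtain ⟨k, hk⟩ := hW ⟨_, mem_res.1 hcc⟩
    have h3 : ((c * c : Cab a b) : Fi24) ^ 2 ^ k = 1 := congrArg (fun y : W => ((y : Spor.Fi24') : Fi24)) hk
    have h4 : c ^ (2 * 2 ^ k) = 1 := by
      apply Subtype.ext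
      rw [pow_mul, pow_two]
      exact h3
    have h5 := orderOf_dvd_of_pow_eq_one h4
    rw [hc, ← pow_succ'] at h5
    exact absurd (Nat.Prime.dvd_of_dvd_pow Nat.prime_five h5) (by norm_num)

theorem exists_seventeen {a b : Fi24} (P : At a b) : ∃ y : Spor.Fi24', orderOf y = 17 ∧ (y : Fi24) * a = a * y := by
  let N : Subgroup Fi24 := commutator Fi24 ⊓ centralizer ({a} : Set Fi24)
  have hN : ∀ n ∈ N, n * a = a * n := fun n hn => mem_centralizer_singleton_iff.1 hn.2
  have hcard : Nat.card N = 4089470473293004800 := by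
    apply card_of_normal P.ha inf_le_left hN
    · rintro c hc hca n hn
      have hca' : c ∈ centralizer ({a} : Set Fi24) := mem_centralizer_singleton_iff.2 hca
      have h3 : c * n * c⁻¹ ∈ centralizer ({a} : Set Fi24) :=
        Subgroup.mul_mem _ (Subgroup.mul_mem _ hca' (mem_inf.1 hn).2) (Subgroup.inv_mem _ hca')
      exact mem_inf.2 ⟨(inferInstance : (commutator Fi24).Normal).conj_mem n (mem_inf.1 hn).1 c, h3⟩
    · intro h
      have h1 : (P.z : Fi24) ∈ N := by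
        refine mem_inf.2 ⟨P.z.2.1, ?_⟩
        rw [mem_centralizer_singleton_iff]
        exact (mem_Cab.1 P.z.2).2.1
      have h2 : N = ⊥ := h
      rw [h2, mem_bot] at h1
      exact P.lift.ext.zne (Subtype.ext h1)
  have hfin : Finite N := Nat.finite_of_card_ne_zero (by rw [hcard]; norm_num)
  have : Fact (Nat.Prime 17) := ⟨by norm_num⟩
  obtain ⟨y, hy⟩ := exists_prime_orderOf_dvd_card' (G := N) 17 (by rw [hcard]; norm_num)
  refine ⟨⟨y, y.2.1⟩, ?_, hN y y.2⟩
  rw [← Subgroup.orderOf_coe]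
  show orderOf ((y : N) : Fi24) = 17
  rw [Subgroup.orderOf_coe, hy]

end Cfsg.Agent.H74.SK.BFi
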