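import Cfsg.Agent.KFacts.HN.Sheet

/-!
# S3010 (Sidki pairs), the row of the Baby Monster: the centralizer `2.HS.2` in `HN` (helper74)

* `normal_two` : the normal 2-subgroups of `2.HS.2` are contained in `⟨τ⟩`;
* `cent_two` : the same in the centralizer in `HN`;
* `exists_pow_five`, `exists_eleven` : subgroups of the centralizer.
-/

set_option autoImplicit false

namespace Cfsg.Agent.H74.SK.BHN

open Subgroup Cfsg
open Cfsg.Agent.HN Cfsg.Agent.HN.Pres Cfsg.Agent.HN.HS100 Cfsg.Agent.HN.H0Basic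

theorem sets {α : Type*} (O A B : Set α) (z : α) (hu : ∀ v, v = z ∨ v ∈ A ∨ v ∈ B) (hz : z ∈ O) (hA : O ∩ A = ∅ ∨ A ⊆ O)
    (hB : O ∩ B = ∅ ∨ B ⊆ O) : O = {z} ∨ O = {z} ∪ A ∨ O = {z} ∪ B ∨ O = Set.univ := by
  rcases hA with hA | hA <;> rcases hB with hB | hB
  · left
    ext v
    constructor
    · intro hv
      rcases hu v with h | h | h
      · exact h
      · exact absurd (show v ∈ O ∩ A from ⟨hv, h⟩) (by rw [hA]; exact Set.notMem_empty v)
      · exact absurd (show v ∈ O ∩ B from ⟨hv, h⟩) (by rw [hB]; exact Set.notMem_empty v)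
    · rintro rfl
      exact hz
  · right; right; left
    ext v
    constructor
    · intro hv
      rcases hu v with h | h | h
      · exact Or.inl h
      · exact absurd (show v ∈ O ∩ A from ⟨hv, h⟩) (by rw [hA]; exact Set.notMem_empty v)
      · exact Or.inr h
    · rintro (rfl | h)
      · exact hz
      · exact hB h
  · right; left
    ext v
    constructor
    · intro hv
      rcases hu v with h | h | h
      · exact Or.inl h
      · exact Or.inr h
      · exact absurd (show v ∈ O ∩ B from ⟨hv, h⟩) (by rw [hB]; exact Set.notMem_empty v)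
    · rintro (rfl | h)
      · exact hz
      · exact hA h
  · right; right; right
    ext v
    refine ⟨fun _ => trivial, fun _ => ?_⟩
    rcases hu v with h | h | h
    · rw [h]; exact hz
    · exact hA h
    · exact hB h

/-- the stabilizer has the orbits `{0}`, `A`, `B` -/
theorem cover (v : Fin 100) : v = 0 ∨ v ∈ MulAction.orbit (MulAction.stabilizer Q (0 : Fin 100)) (2 : Fin 100) ∨
    v ∈ MulAction.orbit (MulAction.stabilizer Q (0 : Fin 100)) (1 : Fin 100) := by
  set A := MulAction.orbit (MulAction.stabilizer Q (0 : Fin 100)) (2 : Fin 100) with hA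
  set B := MulAction.orbit (MulAction.stabilizer Q (0 : Fin 100)) (1 : Fin 100) with hB
  have hA' : A.ncard = 22 := orbit22
  have hB' : B.ncard = 77 := orbit77
  have h0 : MulAction.orbit (MulAction.stabilizer Q (0 : Fin 100)) (0 : Fin 100) = {0} := by
    ext v
    rw [Set.mem_singleton_iff]
    constructor
    · rintro ⟨g, rfl⟩
      exact g.2
    · rintro rfl
      exact MulAction.mem_orbit_self _
  have hAB : Disjoint A B := by
    rcases MulAction.orbit.eq_or_disjoint (G := MulAction.stabilizer Q (0 : Fin 100)) (2 : Fin 100) 1 with h | h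
    · exfalso
      have h1 : A = B := h
      rw [h1, hB'] at hA'
      omega
    · exact h
  have h0A : (0 : Fin 100) ∉ A := by
    intro h
    have h1 : MulAction.orbit (MulAction.stabilizer Q (0 : Fin 100)) (0 : Fin 100) = A := MulAction.orbit_eq_iff.2 h
    rw [h0] at h1
    rw [← h1, Set.ncard_singleton] at hA'
    omega
  have h0B : (0 : Fin 100) ∉ B := by
    intro h
    have h1 : MulAction.orbit (MulAction.stabilizer Q (0 : Fin 100)) (0 : Fin 100) = B := MulAction.orbit_eq_iff.2 h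
    rw [h0] at h1
    rw [← h1, Set.ncard_singleton] at hB'
    omega
  have h1 : (insert (0 : Fin 100) (A ∪ B)).ncard = 100 := by
    rw [Set.ncard_insert_of_notMem (by
      rintro (h | h)
      · exact h0A h
      · exact h0B h), Set.ncard_union_eq hAB, hA', hB']
  have h2 : insert (0 : Fin 100) (A ∪ B) = Set.univ := by
    apply Set.eq_of_subset_of_ncard_le (Set.subset_univ _)
    rw [h1, Set.ncard_univ, Nat.card_eq_fintype_card, Fintype.card_fin]
  have h3 : v ∈ insert (0 : Fin 100) (A ∪ B) := by rw [h2]; trivial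
  rcases h3 with h3 | h3 | h3
  · exact Or.inl h3
  · exact Or.inr (Or.inl h3)
  · exact Or.inr (Or.inr h3)

/-- **The normal 2-subgroups of `2.HS.2`.** -/
theorem normal_two {W : Subgroup H0} (hW : W.Normal) (h2 : IsPGroup 2 W) : ∀ w ∈ W, w = 1 ∨ w = τ := by
  have hfin : Finite H0 := finite_H0
  set O : Set (Fin 100) := {v | ∃ w ∈ W, φ w 0 = v} with hO
  have hinv : ∀ g : H0, φ g 0 = 0 → ∀ v ∈ O, φ g v ∈ O := by
    rintro g hg _ ⟨w, hw, rfl⟩
    refine ⟨g * w * g⁻¹, hW.conj_mem w hw g, ?_⟩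
    have h1 : (φ g)⁻¹ 0 = 0 := by rw [Equiv.Perm.inv_eq_iff_eq, hg]
    rw [map_mul, map_mul, map_inv, Equiv.Perm.mul_apply, Equiv.Perm.mul_apply, h1]
  have horb : ∀ b : Fin 100, O ∩ MulAction.orbit (MulAction.stabilizer Q (0 : Fin 100)) b = ∅ ∨
      MulAction.orbit (MulAction.stabilizer Q (0 : Fin 100)) b ⊆ O := by
    intro b
    by_cases h : (O ∩ MulAction.orbit (MulAction.stabilizer Q (0 : Fin 100)) b).Nonempty
    · right
      obtain ⟨v, hv, hvb⟩ := h
      have h1 : MulAction.orbit (MulAction.stabilizer Q (0 : Fin 100)) v =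
        MulAction.orbit (MulAction.stabilizer Q (0 : Fin 100)) b := MulAction.orbit_eq_iff.2 hvb
      rw [← h1]
      rintro _ ⟨⟨⟨g, hg⟩, hs⟩, rfl⟩
      obtain ⟨k, hk, rfl⟩ := hg
      exact hinv k hs v hv
    · left
      exact Set.not_nonempty_iff_eq_empty.1 h
  have h0 : (0 : Fin 100) ∈ O := ⟨1, W.one_mem, by rw [map_one]; rfl⟩
  obtain ⟨k, hk⟩ := IsPGroup.iff_card.1 h2
  have hcard : O.ncard ∣ 2 ^ k := by
    letI : MulAction W (Fin 100) := MulAction.compHom (Fin 100) (φ.comp W.subtype)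
    have h1 : MulAction.orbit W (0 : Fin 100) = O := by
      ext v
      constructor
      · rintro ⟨w, rfl⟩
        exact ⟨w, w.2, rfl⟩
      · rintro ⟨w, hw, rfl⟩
        exact ⟨⟨w, hw⟩, rfl⟩
    rw [← h1, ← MulAction.index_stabilizer, ← hk]
    exact Subgroup.index_dvd_card _
  have hO1 : O = {0} := by
    rcases sets O _ _ 0 cover h0 (horb 2) (horb 1) with h | h | h | h
    · exact h
    · exfalso
      have h3 : O.ncard = 23 := by
        rw [h, Set.singleton_union, Set.ncard_insert_of_notMem, orbit22]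
        intro h4
        have h5 : MulAction.orbit (MulAction.stabilizer Q (0 : Fin 100)) (0 : Fin 100) = _ :=
          MulAction.orbit_eq_iff.2 h4
        have h6 : ((0 : Fin 100) : Fin 100) = 2 := by
          have h7 : (2 : Fin 100) ∈ MulAction.orbit (MulAction.stabilizer Q (0 : Fin 100)) (0 : Fin 100) := by
            rw [h5]; exact MulAction.mem_orbit_self _
          obtain ⟨g, hg⟩ := h7
          rw [← hg]
          exact g.2.symm
        exact absurd h6 (by decide)
      rw [h3] at hcard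
      have := (by norm_num : Nat.Prime 23).dvd_of_dvd_pow hcard
      norm_num at this
    · exfalso
      have h3 : O.ncard = 78 := by
        rw [h, Set.singleton_union, Set.ncard_insert_of_notMem, orbit77]
        intro h4
        have h5 : MulAction.orbit (MulAction.stabilizer Q (0 : Fin 100)) (0 : Fin 100) = _ :=
          MulAction.orbit_eq_iff.2 h4
        have h6 : ((0 : Fin 100) : Fin 100) = 1 := by
          have h7 : (1 : Fin 100) ∈ MulAction.orbit (MulAction.stabilizer Q (0 : Fin 100)) (0 : Fin 100) := by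
            rw [h5]; exact MulAction.mem_orbit_self _
          obtain ⟨g, hg⟩ := h7
          rw [← hg]
          exact g.2.symm
        exact absurd h6 (by decide)
      rw [h3] at hcard
      have := (by norm_num : Nat.Prime 3).dvd_of_dvd_pow ((by norm_num : 3 ∣ 78).trans hcard)
      norm_num at this
    · exfalso
      have h3 : O.ncard = 100 := by
        rw [h, Set.ncard_univ, Nat.card_eq_fintype_card, Fintype.card_fin]
      rw [h3] at hcard
      have := (by norm_num : Nat.Prime 5).dvd_of_dvd_pow ((by norm_num : 5 ∣ 100).trans hcard)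
      norm_num at this
  have hfix : ∀ w ∈ W, φ w 0 = 0 := by
    intro w hw
    have h1 : φ w 0 ∈ O := ⟨w, hw, rfl⟩
    rw [hO1] at h1
    exact h1
  intro w hw
  rw [← φ_eq_one_iff]
  ext v
  obtain ⟨⟨_, ⟨g, hg, rfl⟩⟩, hgv⟩ := trans_Q.exists_smul_eq (0 : Fin 100) v
  have hgv' : φ g 0 = v := hgv
  have h1 := hfix (g⁻¹ * w * g) (by simpa using hW.conj_mem w hw g⁻¹)
  rw [map_mul, map_mul, map_inv, Equiv.Perm.mul_apply, Equiv.Perm.mul_apply, hgv', Equiv.Perm.inv_eq_iff_eq] at h1
  rw [h1, hgv', Equiv.Perm.one_apply]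

theorem ψ_inj : Function.Injective NormalH.ψ := Cfsg.Agent.KFacts.HN.emb.inj

theorem card_ψτ : Nat.card ↥(centralizer ({NormalH.ψ τ} : Set Cfsg.Spor.HN)) = 177408000 :=
  Cfsg.Agent.KFacts.HN.Classes.card_centralizer_τ

theorem range_eq : NormalH.ψ.range = centralizer ({NormalH.ψ τ} : Set Cfsg.Spor.HN) := by
  have hfin : Finite ↥(centralizer ({NormalH.ψ τ} : Set Cfsg.Spor.HN)) :=
    Nat.finite_of_card_ne_zero (by rw [card_ψτ]; norm_num)
  apply Subgroup.eq_of_le_of_card_ge
  · rintro _ ⟨h, rfl⟩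
    rw [mem_centralizer_singleton_iff, ← map_mul, ← map_mul, τ_comm h]
  · rw [card_ψτ, ← card_H0]
    exact (Nat.card_congr (MonoidHom.ofInjective ψ_inj).toEquiv).le

/-- **The 2-subgroups of `C(ψ τ)` normalised by `C(ψ τ)`.** -/
theorem cent_two (W : Subgroup Cfsg.Spor.HN) (hW : IsPGroup 2 W) (h1 : ∀ w ∈ W, w * NormalH.ψ τ = NormalH.ψ τ * w)
    (h2 : ∀ y : Cfsg.Spor.HN, y * NormalH.ψ τ = NormalH.ψ τ * y → ∀ w ∈ W, y * w * y⁻¹ ∈ W) :
    ∀ w ∈ W, w = 1 ∨ w = NormalH.ψ τ := by
  have hn : (W.comap NormalH.ψ).Normal := by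
    refine ⟨fun n hn g => ?_⟩
    rw [mem_comap, map_mul, map_mul, map_inv]
    refine h2 _ ?_ _ hn
    rw [← map_mul, ← map_mul, τ_comm g]
  have hp : IsPGroup 2 (W.comap NormalH.ψ) := hW.comap_of_injective _ ψ_inj
  intro w hw
  have h3 : w ∈ NormalH.ψ.range := by
    rw [range_eq, mem_centralizer_singleton_iff]
    exact h1 w hw
  obtain ⟨v, rfl⟩ := h3
  rcases normal_two hn hp v hw with h | h
  · left; rw [h, map_one]
  · right; rw [h]

theorem ψτ_sq : NormalH.ψ τ * NormalH.ψ τ = 1 := by rw [← map_mul, τ_mul_τ, map_one]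

theorem ψτ_ne : NormalH.ψ τ ≠ 1 := fun h => τ_ne_one (ψ_inj (h.trans (map_one _).symm))

theorem exists_pow_five : ∃ S : Subgroup Cfsg.Spor.HN, Nat.card S = 5 ^ 3 ∧ ∀ y ∈ S, y * NormalH.ψ τ = NormalH.ψ τ * y := by
  have hfin : Finite ↥(centralizer ({NormalH.ψ τ} : Set Cfsg.Spor.HN)) :=
    Nat.finite_of_card_ne_zero (by rw [card_ψτ]; norm_num)
  have : Fact (Nat.Prime 5) := ⟨Nat.prime_five⟩
  obtain ⟨S, hS⟩ := Sylow.exists_subgroup_card_pow_prime (G := ↥(centralizer ({NormalH.ψ τ} : Set Cfsg.Spor.HN))) 5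
    (n := 3) (by rw [card_ψτ]; norm_num)
  refine ⟨S.map (centralizer ({NormalH.ψ τ} : Set Cfsg.Spor.HN)).subtype, ?_, ?_⟩
  · rw [Subgroup.card_map_of_injective (Subgroup.subtype_injective _), hS]
  · rintro _ ⟨y, -, rfl⟩
    exact mem_centralizer_singleton_iff.1 y.2

theorem exists_eleven : ∃ y : Cfsg.Spor.HN, orderOf y = 11 ∧ y * NormalH.ψ τ = NormalH.ψ τ * y := by
  have hfin : Finite ↥(centralizer ({NormalH.ψ τ} : Set Cfsg.Spor.HN)) :=
    Nat.finite_of_card_ne_zero (by rw [card_ψτ]; norm_num)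
  have : Fact (Nat.Prime 11) := ⟨by norm_num⟩
  obtain ⟨y, hy⟩ := exists_prime_orderOf_dvd_card' (G := ↥(centralizer ({NormalH.ψ τ} : Set Cfsg.Spor.HN))) 11
    (by rw [card_ψτ]; norm_num)
  exact ⟨y, by rw [Subgroup.orderOf_coe, hy], mem_centralizer_singleton_iff.1 y.2⟩

end Cfsg.Agent.H74.SK.BHN
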