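import Cfsg.Agent.H74.SK.BSplit
import Cfsg.Agent.H74.SK.BHN
import Cfsg.Agent.S1701

/-!
# S3010 (Sidki pairs), the row of the Baby Monster: the class of `q (f₁ f₂)` is dead (helper74)

`x` of order 5 in the Monster with `C(x)/⟨x⟩ ≅ HN`.
-/

set_option autoImplicit false

namespace Cfsg.Agent.H74.SK.BHNK

open Subgroup Cfsg
open Cfsg.Agent.H282.SK Cfsg.Agent.H738.SK Cfsg.Agent.R01.Lifts Cfsg.Agent.H74.SK.BAbs Cfsg.Agent.H74.SK.BCore
open Cfsg.Agent.H74.SK.BSplit

universe u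

theorem card_HN : Nat.card Spor.HN = 273030912000000 := S1701.result.2

theorem finite_HN : Finite Spor.HN := Nat.finite_of_card_ne_zero (by rw [card_HN]; norm_num)

theorem center_bot : center Spor.HN = ⊥ := by
  have hs : IsSimpleGroup Spor.HN := S1701.result.1
  have hf := finite_HN
  rcases hs.eq_bot_or_eq_top_of_normal (center Spor.HN) inferInstance with h | h
  · exact h
  · exfalso
    let _ : CommGroup Spor.HN := { (inferInstance : Group Spor.HN) with
      mul_comm := fun a b => (mem_center_iff.1 (show b ∈ center Spor.HN by rw [h]; trivial) a) }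
    have h1 : (Nat.card Spor.HN).Prime := IsSimpleGroup.prime_card (α := Spor.HN)
    rw [card_HN] at h1
    have h2 : 2 ∣ 273030912000000 := by norm_num
    rcases (Nat.dvd_prime h1).1 h2 with h3 | h3 <;> omega

theorem exists_sq_inner (α : MulAut Spor.HN) : ∃ c, α * α = MulAut.conj c := by
  have h : α * α ∈ (MulAut.conj : Spor.HN →* MulAut Spor.HN).range := by
    rcases KFacts.HN.out_index with h | h
    · rw [Subgroup.index_eq_one.1 h]; trivial
    · exact Subgroup.mul_self_mem_of_index_two h α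
  obtain ⟨c, hc⟩ := h
  exact ⟨c, hc.symm⟩

section main

variable {B Γ : Type*} {X : Type u} [Group B] [Group X] [Group Γ] {q : B →* X} {θ : B →* Γ}
  {τ f₁ f₂ f₃ f₄ y₅ : B} {z : Γ} {t₁ : X}

theorem main [Finite X] [Finite Γ] (S : Sit q θ τ f₁ f₂ f₃ f₄ y₅ z t₁)
    (h55 : ¬ ∃ u v : Γ, orderOf u = 5 ∧ orderOf v = 11 ∧ Commute u v ∧ Commute u z ∧ Commute v z)
    {x m : Γ} {φ : centralizer ({x} : Set Γ) →* Spor.HN} (K : Ker φ) (hx : orderOf x = 5) (hm : m * x * m⁻¹ = x ^ 2) :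
    Dead (⊤ : Subgroup X) (q (f₁ * f₂)) ∧ ¬ IsConj z (θ (f₁ * f₂)) := by
  have hfin := finite_HN
  have hx5 : x ^ 5 = 1 := by rw [← hx, pow_orderOf_eq_one]
  have hx1 : x ≠ 1 := by
    rintro rfl
    rw [orderOf_one] at hx
    norm_num at hx
  have hz : zpowers (m * x * m⁻¹) = zpowers x := by
    rw [hm]
    apply le_antisymm
    · rw [zpowers_le]; exact pow_mem (mem_zpowers x) 2
    · rw [zpowers_le]
      have h1 : (x ^ 2) ^ 3 = x := by
        rw [← pow_mul, show 2 * 3 = 5 + 1 by norm_num, pow_add, hx5, one_mul, pow_one]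
      have h2 : (x ^ 2) ^ 3 ∈ zpowers (x ^ 2) := pow_mem (mem_zpowers (x ^ 2)) 3
      rwa [h1] at h2
  obtain ⟨α, hα⟩ := exists_aut K hz
  obtain ⟨c, hc⟩ := exists_sq_inner α
  have hmm : m * m * x * (m * m)⁻¹ = x⁻¹ := by
    calc m * m * x * (m * m)⁻¹ = m * (m * x * m⁻¹) * m⁻¹ := by group
      _ = (m * x * m⁻¹) ^ 2 := by rw [hm, ← conj_pow, hm]
      _ = x ^ 4 := by rw [hm, ← pow_mul]
      _ = x⁻¹ := by
        rw [eq_inv_iff_mul_eq_one, ← pow_succ]
        exact hx5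
  obtain ⟨s, hss, hinv, hcs⟩ := exists_s_of_inner K center_bot hmm (c := c) (by
    intro d h
    have h1 := hα ⟨m * d * m⁻¹, mem_conj hz d.2⟩
    have h2 : (⟨m * m * d * (m * m)⁻¹, h⟩ : centralizer ({x} : Set Γ)) =
        ⟨m * ((⟨m * d * m⁻¹, mem_conj hz d.2⟩ : centralizer ({x} : Set Γ)) : Γ) * m⁻¹,
          mem_conj hz (mem_conj hz d.2)⟩ := by
      apply Subtype.ext
      show m * m * (d : Γ) * (m * m)⁻¹ = m * (m * d * m⁻¹) * m⁻¹
      group
    rw [h2, h1, hα]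
    have h3 : α (α (φ d)) = (α * α) (φ d) := rfl
    rw [h3, hc, MulAut.conj_apply])
  have : Fact (Nat.Prime 19) := ⟨by norm_num⟩
  obtain ⟨y, hy⟩ := exists_prime_orderOf_dvd_card' (G := Spor.HN) 19 (by rw [card_HN]; norm_num)
  obtain ⟨P, hP, hPc⟩ := BHN.exists_pow_five
  refine main5 S K hx1 hss hinv hcs hy BHN.ψτ_sq BHN.ψτ_ne ?_ BHN.cent_two P hP hPc
  intro tx htt htx hconj
  apply h55
  obtain ⟨g, hg⟩ := isConj_iff.1 hconj
  obtain ⟨w, hw, hwc⟩ := BHN.exists_eleven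
  obtain ⟨d, rfl⟩ := K.surj w
  rw [← htx] at hwc
  have hdt := K.commute_of_mod (g := d) htt hwc
  have hdt' : Commute (d : Γ) tx := congrArg Subtype.val hdt.eq
  have hdx : Commute (d : Γ) x := mem_centralizer_singleton_iff.1 d.2
  have htx' : Commute (tx : Γ) x := mem_centralizer_singleton_iff.1 tx.2
  have hd11 : orderOf ((d : Γ) ^ 5) = 11 := by
    have h1 : φ (d ^ 11) = 1 := by rw [map_pow, ← hw, pow_orderOf_eq_one]
    have h2 := pow_of_mem ((K.ker _).1 h1)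
    rw [hx] at h2
    have h3 : ((d : Γ) ^ 5) ^ 11 = 1 := by
      have h4 : ((d : Γ) ^ 11) ^ 5 = 1 := h2
      rw [← pow_mul] at h4 ⊢
      exact h4
    have : Fact (Nat.Prime 11) := ⟨by norm_num⟩
    refine orderOf_eq_prime h3 ?_
    intro h4
    have h5 : d ^ 5 = 1 := Subtype.ext h4
    have h6 : (φ d) ^ 5 = 1 := by rw [← map_pow, h5, map_one]
    have h7 := orderOf_dvd_of_pow_eq_one h6
    rw [hw] at h7
    norm_num at h7
  have key : ∀ {u v : Γ}, Commute u v → Commute (MulAut.conj g⁻¹ u) (MulAut.conj g⁻¹ v) := fun h => h.map _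
  have hz' : MulAut.conj g⁻¹ (tx : Γ) = z := by
    rw [← hg, MulAut.conj_apply]; group
  refine ⟨MulAut.conj g⁻¹ x, MulAut.conj g⁻¹ ((d : Γ) ^ 5), ?_, ?_, ?_, ?_, ?_⟩
  · rw [MulEquiv.orderOf_eq, hx]
  · rw [MulEquiv.orderOf_eq, hd11]
  · exact key (hdx.pow_left 5).symm
  · rw [← hz']; exact key htx'.symm
  · rw [← hz']; exact key (hdt'.pow_left 5)

end main

end Cfsg.Agent.H74.SK.BHNK
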